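import Cfsg.Agent.Lib.Mult.Glue
import Cfsg.Agent.Lib.Grp.S62.Main

set_option autoImplicit false
set_option maxRecDepth 100000
set_option Elab.async false

namespace Cfsg.Agent.Mult.S62

open Cfsg.Agent.CG Cfsg.Agent.CG.S62

noncomputable def p3T : ℕ := 0x20060400c08018100300000000000601c8c0901806000000000000006d0120200c00000000000000240180201800000000000000000000000
noncomputable def p3q1 : ℕ := 0x100003000080001
noncomputable def p3q2 : ℕ := 0x90012391b4808c9
noncomputable def p3NF : ℕ := 0x10000000000000000000000000000000000000000000000000000000000000000000000000000000000000000000000000000000000000000000000000200000000000008000000000000000000000000000000000000000000000040000000000001000000000000000000000000000000000000000000000000000000000040000000000000000000000000000000000000000000000000000000000000000000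
noncomputable def p3gv : ℕ := 0x400000040000008000001000000000
noncomputable def p3av : ℕ := 0x10000000000000002000000000000000000000000000000000000
noncomputable def p3mu : ℕ := 0x80000008000000020000000000
noncomputable def p3om : ℕ := 0x0
noncomputable def p3tm : ℕ := 0xaeee3240ee198eee76eeee5eeeeee
noncomputable def p3par : ℕ := 0x1183166
noncomputable def p3z : Desc := ⟨0,0,0,0,[],[]⟩
noncomputable def p3ds : Tr Desc := (.node (.node (.node (.node (.node (.leaf p3z) (.leaf ⟨0,3,0,0,[],[]⟩)) (.node (.leaf p3z) (.leaf ⟨1,0x1b,3,1,[],[]⟩))) (.node (.node (.leaf p3z) (.leaf p3z)) (.node (.leaf ⟨0,2,0,0,[],[]⟩) (.leaf ⟨2,0,0,0,[2,0],[0,2,3,3]⟩)))) (.node (.node (.node (.leaf p3z) (.leaf ⟨1,0x12,2,1,[],[]⟩)) (.node (.leaf p3z) (.leaf p3z))) (.node (.node (.leaf ⟨0,0,0,0,[],[]⟩) (.leaf ⟨1,0x3,2,1,[],[]⟩)) (.leaf p3z)))) (.node (.node (.node (.node (.leaf p3z) (.leaf ⟨0,4,0,0,[],[]⟩)) (.node (.leaf p3z) (.leaf p3z))) (.node (.node (.leaf p3z) (.leaf ⟨1,0x1,1,1,[],[]⟩)) (.leaf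 p3z))) (.node (.node (.node (.leaf p3z) (.leaf p3z)) (.node (.leaf ⟨0,1,0,0,[],[]⟩) (.leaf p3z))) (.node (.node (.leaf p3z) (.leaf ⟨1,0x4,2,1,[],[]⟩)) (.leaf p3z)))))
noncomputable def p3rd : Tr Desc := (.node (.node (.leaf ⟨2,0,0,0,[2,1],[1,2]⟩) (.leaf ⟨2,0,0,0,[0,0,0],[3,3]⟩)) (.leaf ⟨2,0,0,0,[1,1,1],[]⟩))
noncomputable def D3 : Dat where
  p := 3
  q := 3
  n1 := 5
  b := 3
  fl := 6
  ew := 19
  T := p3T
  w := 11
  fuel := 37
  nf := 1
  cm := 4
  q1 := fun x => look 0x3ffff p3q1 (Nat.mul 18 x)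
  q2 := fun x => look 0x3ffff p3q2 (Nat.mul 18 x)
  NV := 29
  d := 5
  w2 := 9
  NF := fun x => look 0x1fffffffffff p3NF (Nat.mul 45 x)
  tm := fun x => look 0xf p3tm (Nat.mul 4 x)
  TM := 14
  par := fun x => look 0x1f p3par (Nat.mul 5 x)
  ds := fun x => p3ds.get x
  r := 3
  s0 := 0
  gv := fun x => look 0x1fffffffffff p3gv (Nat.mul 45 x)
  rd := fun x => p3rd.get x
  av := fun x => look 0x1fffffffffff p3av (Nat.mul 45 x)
  mw := 2
  mu := fun x => look 0x3f p3mu (Nat.mul 6 x)
  ms := []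
  om := fun x => look 0x3f p3om (Nat.mul 6 x)
noncomputable def p3w1 : List (List ℕ) := [[10,11,17,17,18,32,23],
  [17,1,15,18,23,26],
  [13,1,17,18,20,23,27],
  [3,10,17,17,32,23,27,26,28],
  [16,9,36,32,20,32,27,28]]
noncomputable def p3w2 : List (List ℕ) := [[1],
  [2],
  [3],
  [4]]
noncomputable def p3L0c : ℕ := 0x2407811412078211f8a2144
noncomputable def p3L0p : ℕ := 0x501003008010000100000
noncomputable def p3L0l : ℕ := 0x100401004010040401000
noncomputable def p3L0q : ℕ := 0x8070000000c000000000000000000000000000010010140002006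
noncomputable def p3L1c : ℕ := 0x784884
noncomputable def p3L1p : ℕ := 0x10000
noncomputable def p3L1l : ℕ := 0x30300
noncomputable def p3L1q : ℕ := 0x10200
noncomputable def p3L2c : ℕ := 0x1e045240
noncomputable def p3L2p : ℕ := 0x100000
noncomputable def p3L2l : ℕ := 0x200800
noncomputable def p3L2q : ℕ := 0x20040000000
noncomputable def p3L : List Lvl := [mkLvl 324 [4,1] 9 10 p3L0c p3L0p p3L0l 23 p3L0q,
  mkLvl 132 [3] 3 8 p3L1c p3L1p p3L1l 7 p3L1q,
  mkLvl 576 [2] 3 10 p3L2c p3L2p p3L2l 7 p3L2q]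

theorem p3c0 : okcb 63 12 (bases p3L) = true := by decide +kernel
theorem p3c1 : D3.chkNum 0 4 1451520 p3w2 p3L = true := by decide +kernel
theorem p3c2 : headAll (appW (appW app p3w1) p3w2) p3L [] = true := by decide +kernel
theorem p3c3 : allL (fun l => l.chk (appW (appW app p3w1) p3w2) 1 (l.N - 1)) p3L = true := by decide +kernel
theorem p3c4 : D3.chkPc (appW app p3w1) bs 0 25 = true := by decide +kernel
theorem p3c5 : D3.chkFus (appW app p3w1) bs 0 4 = true := by decide +kernel
theorem p3c6 : D3.chkHead = true := by decide +kernel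
theorem p3c7 : D3.chkVars 0 29 = true := by decide +kernel
theorem p3c8 : D3.chkRhos 0 3 = true := by decide +kernel
theorem p3c9 : D3.chkEnts 0 25 = true := by decide +kernel

theorem pb3 : PB PG 3 [] :=
  Dat.pbA (D := D3) base card (by norm_num : Nat.Prime 3) (okc_of_okcb p3c0) p3c1 p3c2 p3c3
    p3c4
    p3c5
    p3c6 p3c7
    p3c8
    p3c9

end Cfsg.Agent.Mult.S62
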